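import Mathlib
import Cfsg.Prelude.Def_Transfer
import Cfsg.Agent.Transfer.NormalPComplement
import Cfsg.Agent.S0205

/-!
# Almost simple groups whose proper supplements of the socle are 2-nilpotent (S4386)

* `NC X` : `X` has a normal 2-complement;
* `AS S` : `S` is a simple normal subgroup of `A`, `C_A(S) = 1` and every proper supplement of `S` in `A` is 2-nilpotent;
* `Loc S` : the consequences for the simple group `S` alone; `Loc.exists_z` : a central involution `z` of a Sylow
  2-subgroup with `C(z)` 2-nilpotent;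
* `IsL2 S` : the conclusion.
* `PI S M r` : `S` is simple and normal in `G`, `C(S) = 1`, `M` is a maximal subgroup of prime index `r` which is not
  2-nilpotent, `S M = G`, and every maximal subgroup `K` with `S K = G` is 2-nilpotent or of prime index.
-/

set_option autoImplicit false

namespace Cfsg.Agent.H584.NC

open Subgroup

universe u v

/-- `X` has a normal 2-complement. -/
abbrev NC (X : Type u) [Group X] : Prop := Cfsg.HasNormalPComplement 2 X

/-- The hypotheses on an almost simple group. -/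
structure AS {A : Type u} [Group A] (S : Subgroup A) : Prop where
  normal : S.Normal
  simple : IsSimpleGroup S
  nonsol : ¬ Group.IsSolvable S
  cent : centralizer (S : Set A) = ⊥
  npc : ∀ H : Subgroup A, H ≠ ⊤ → S ⊔ H = ⊤ → NC H

/-- The local condition for a Sylow 2-subgroup `Q` of the simple group `S` and a 2-group `T` of automorphisms. -/
structure LocAt {S : Type u} [Group S] (Q : Sylow 2 S) (T : Subgroup (MulAut S)) : Prop where
  two : IsPGroup 2 T
  inner : ∀ x ∈ Q, MulAut.conj x ∈ T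
  inv : ∀ τ ∈ T, (Q : Subgroup S).map τ.toMonoidHom = Q
  npc : ∀ Y : Subgroup S, Y ≤ Q → Y ≠ ⊥ → (∀ τ ∈ T, Y.map τ.toMonoidHom = Y) → NC (normalizer (Y : Set S))

/-- The consequences of `AS S` for the simple group `S`. -/
structure Loc (S : Type u) [Group S] : Prop where
  simple : IsSimpleGroup S
  nonsol : ¬ Group.IsSolvable S
  loc : ∃ (Q : Sylow 2 S) (T : Subgroup (MulAut S)), LocAt Q T
  star : ∀ H : Subgroup S, H ≠ ⊤ →
    (∀ α : MulAut S, ∃ s : S, H.map α.toMonoidHom = H.map (MulAut.conj s).toMonoidHom) → NC H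

/-- the fields of the conclusion -/
def QOK (F : Type) [Fintype F] : Prop :=
  (∃ (r a : ℕ), r.Prime ∧ r ≠ 2 ∧ 1 ≤ a ∧ Fintype.card F = r ^ (2 ^ a)) ∨
    ((Fintype.card F).Prime ∧ (Fintype.card F % 8 = 1 ∨ Fintype.card F % 8 = 7))

/-- the conclusion on the simple group -/
def IsL2 (S : Type u) [Group S] : Prop :=
  ∃ (F : Type) (_ : Field F) (_ : Fintype F), QOK F ∧ Nonempty (S ≃* Matrix.ProjectiveSpecialLinearGroup (Fin 2) F)

/-- The hypotheses with a maximal subgroup of prime index. -/
structure PI {G : Type u} [Group G] (S M : Subgroup G) (r : ℕ) : Prop where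
  normal : S.Normal
  simple : IsSimpleGroup S
  nonsol : ¬ Group.IsSolvable S
  cent : centralizer (S : Set G) = ⊥
  prime : r.Prime
  coatom : IsCoatom M
  sup : S ⊔ M = ⊤
  index : M.index = r
  notnc : ¬ NC M
  max : ∀ K : Subgroup G, IsCoatom K → S ⊔ K = ⊤ → NC K ∨ K.index.Prime

/-- The conclusion with a maximal subgroup of prime index. -/
def PIConcl {G : Type u} [Group G] (S : Subgroup G) : Prop :=
  Nonempty (G ≃* alternatingGroup (Fin 5)) ∨
    (∃ (F : Type) (_ : Field F) (_ : Fintype F), (Fintype.card F = 7 ∨ Fintype.card F = 11) ∧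
        Nonempty (G ≃* Matrix.ProjectiveSpecialLinearGroup (Fin 2) F)) ∨
    (S.index = 2 ∧ Nonempty (S ≃* alternatingGroup (Fin 5)))

/-! ### 2-nilpotent groups -/

instance factTwo : Fact (Nat.Prime 2) := ⟨Nat.prime_two⟩

theorem NC.of_injective {G : Type u} {H : Type v} [Group G] [Group H] [Finite G] (f : H →* G)
    (hf : Function.Injective f) (h : NC G) : NC H :=
  Transfer.NormalPComplement.of_injective f hf h

theorem NC.of_surjective {G : Type u} {H : Type v} [Group G] [Group H] [Finite G] (f : G →* H)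
    (hf : Function.Surjective f) (h : NC G) : NC H :=
  Transfer.NormalPComplement.of_surjective f hf h

theorem NC.to_le {G : Type u} [Group G] [Finite G] {H K : Subgroup G} (h : NC K) (hHK : H ≤ K) : NC H :=
  NC.of_injective (Subgroup.inclusion hHK) (Subgroup.inclusion_injective hHK) h

theorem NC.subgroup {G : Type u} [Group G] [Finite G] (h : NC G) (H : Subgroup G) : NC H :=
  NC.of_injective H.subtype (Subgroup.subtype_injective _) h

theorem NC.congr {G : Type u} {H : Type v} [Group G] [Group H] [Finite G] (e : G ≃* H) : NC G ↔ NC H :=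
  Transfer.NormalPComplement.congr e

/-- a 2-nilpotent group in terms of a normal subgroup of odd order with quotient a 2-group -/
theorem NC_iff {G : Type u} [Group G] [Finite G] :
    NC G ↔ ∃ N : Subgroup G, ∃ _ : N.Normal, (Nat.card N).Coprime 2 ∧ IsPGroup 2 (G ⧸ N) :=
  Transfer.NormalPComplement.hasNormalPComplement_iff

theorem NC_of_isPGroup {G : Type u} [Group G] [Finite G] (h : IsPGroup 2 G) : NC G :=
  NC_iff.2 ⟨⊥, inferInstance, by simp, h.of_surjective (QuotientGroup.mk' _) (QuotientGroup.mk'_surjective _)⟩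

theorem NC_of_odd {G : Type u} [Group G] [Finite G] (h : ¬ 2 ∣ Nat.card G) : NC G :=
  NC_iff.2 ⟨⊤, inferInstance, by
    rw [Subgroup.card_top]
    exact ((Nat.Prime.coprime_iff_not_dvd Nat.prime_two).2 h).symm, fun x => ⟨0, by
      rw [pow_zero, pow_one]
      have := QuotientGroup.subsingleton_quotient_top (G := G)
      exact Subsingleton.elim _ _⟩⟩

/-- 2-nilpotent groups are solvable. -/
theorem NC.solvable {G : Type u} [Group G] [Finite G] (h : NC G) : Group.IsSolvable G := by
  obtain ⟨N, hN, hc, hp⟩ := NC_iff.1 h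
  have h1 : Group.IsSolvable N := by
    refine S0205.result ?_
    rw [← Nat.not_even_iff_odd, even_iff_two_dvd]
    exact (Nat.Prime.coprime_iff_not_dvd Nat.prime_two).1 hc.symm
  have h2 : Group.IsSolvable (G ⧸ N) := by
    have := hp.isNilpotent
    infer_instance
  have h3 : Group.IsSolvable (QuotientGroup.mk' N).range :=
    solvable_of_solvable_injective (Subgroup.subtype_injective _)
  exact solvable_of_ker_le_range N.subtype (QuotientGroup.mk' N) (by rw [QuotientGroup.ker_mk', Subgroup.range_subtype])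

/-- In a 2-nilpotent group the elements of odd order form a subgroup. -/
theorem NC.closed {G : Type u} [Group G] [Finite G] (h : NC G) {x y : G} (hx : ¬ 2 ∣ orderOf x) (hy : ¬ 2 ∣ orderOf y) :
    ¬ 2 ∣ orderOf (x * y) := by
  obtain ⟨N, hN, hc, hp⟩ := NC_iff.1 h
  have key : ∀ z : G, z ∈ N ↔ ¬ 2 ∣ orderOf z := by
    intro z
    rw [Transfer.NormalPComplement.mem_iff_coprime_orderOf' N hc hp, Nat.coprime_comm,
      Nat.Prime.coprime_iff_not_dvd Nat.prime_two]
  rw [← key] at hx hy ⊢
  exact N.mul_mem hx hy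

/-- In a 2-nilpotent group an element of odd order normalizing a 2-subgroup centralizes it. -/
theorem NC.comm {G : Type u} [Group G] [Finite G] (h : NC G) {Y : Subgroup G} (hY : IsPGroup 2 Y) {x : G}
    (hx : ¬ 2 ∣ orderOf x) (hxY : ∀ y ∈ Y, x * y * x⁻¹ ∈ Y) {y : G} (hy : y ∈ Y) : x * y = y * x := by
  have h1 : x * y * x⁻¹ * y⁻¹ ∈ Y := Y.mul_mem (hxY y hy) (Y.inv_mem hy)
  obtain ⟨k, hk⟩ := hY ⟨_, h1⟩
  have h2 : (x * y * x⁻¹ * y⁻¹) ^ 2 ^ k = 1 := congrArg Subtype.val hk
  have h3 : ¬ 2 ∣ orderOf (x * y * x⁻¹ * y⁻¹) := by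
    have h4 : x * y * x⁻¹ * y⁻¹ = x * (y * x⁻¹ * y⁻¹) := by group
    rw [h4]
    refine h.closed hx ?_
    have h5 : orderOf (y * x⁻¹ * y⁻¹) = orderOf x := by
      have : y * x⁻¹ * y⁻¹ = MulAut.conj y x⁻¹ := rfl
      rw [this, (MulAut.conj y).orderOf_eq, orderOf_inv]
    rwa [h5]
  have h6 : x * y * x⁻¹ * y⁻¹ = 1 := by
    rw [← orderOf_eq_one_iff]
    have h7 := orderOf_dvd_of_pow_eq_one h2
    obtain ⟨j, -, hj⟩ := (Nat.dvd_prime_pow Nat.prime_two).1 h7
    rw [hj]
    rcases j with _ | j
    · rfl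
    · exact absurd (hj ▸ dvd_pow_self 2 (Nat.succ_ne_zero j)) h3
  calc x * y = (x * y * x⁻¹ * y⁻¹) * (y * x) := by group
    _ = y * x := by rw [h6, one_mul]

/-- The same inside a subgroup `K` of a group. -/
theorem NC.comm' {G : Type u} [Group G] [Finite G] {K : Subgroup G} (h : NC K) {Y : Subgroup G} (hYK : Y ≤ K)
    (hY : IsPGroup 2 Y) {x : G} (hxK : x ∈ K)
    (hx : ¬ 2 ∣ orderOf x) (hxY : ∀ y ∈ Y, x * y * x⁻¹ ∈ Y) {y : G} (hy : y ∈ Y) : x * y = y * x := by
  have h1 : IsPGroup 2 (Y.subgroupOf K) := hY.comap_of_injective K.subtype (Subgroup.subtype_injective _)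
  have h2 : ¬ 2 ∣ orderOf (⟨x, hxK⟩ : K) := by rwa [Subgroup.orderOf_mk]
  have h3 := h.comm h1 h2 (fun y hy => by
    rw [mem_subgroupOf] at hy ⊢
    exact hxY _ hy) (y := ⟨y, hYK hy⟩) (by rw [mem_subgroupOf]; exact hy)
  exact congrArg Subtype.val h3

/-- A group of odd order is solvable, so a non-solvable group has even order. -/
theorem two_dvd_of_nonsol {G : Type u} [Group G] [Finite G] (h : ¬ Group.IsSolvable G) : 2 ∣ Nat.card G := by
  by_contra hcon
  exact h (NC_of_odd hcon).solvable

theorem not_nc_of_nonsol {G : Type u} [Group G] [Finite G] (h : ¬ Group.IsSolvable G) : ¬ NC G :=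
  fun h1 => h h1.solvable

/-- A nonabelian 2-nilpotent simple group does not exist. -/
theorem not_nc_of_simple {G : Type u} [Group G] [Finite G] [IsSimpleGroup G] (h : ¬ IsMulCommutative G) : ¬ NC G := by
  intro h1
  have h2 := h1.solvable
  exact h ⟨⟨IsSimpleGroup.comm_iff_isSolvable.2 h2⟩⟩

/-! ### the centralizer of an involution -/

section Z

variable {S : Type u} [Group S] [Finite S]

theorem normalizer_zpowers_of_two {z : S} (hz : orderOf z = 2) :
    normalizer (zpowers z : Set S) = centralizer ({z} : Set S) := by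
  ext g
  rw [mem_normalizer_iff, mem_centralizer_singleton_iff]
  have hel : ∀ x, x ∈ zpowers z → x = 1 ∨ x = z := by
    intro x hx
    obtain ⟨k, rfl⟩ := mem_zpowers_iff.1 hx
    rw [← zpow_mod_orderOf, hz]
    rcases Int.emod_two_eq_zero_or_one k with h | h
    · left
      change z ^ (k % 2) = 1
      rw [h, zpow_zero]
    · right
      change z ^ (k % 2) = z
      rw [h, zpow_one]
  constructor
  · intro h
    rcases hel _ ((h z).1 (mem_zpowers z)) with h1 | h1
    · exfalso
      have h2 : z = 1 := by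
        have : g * z = g := by rw [mul_inv_eq_one] at h1; exact h1
        exact mul_eq_left.1 this
      rw [h2, orderOf_one] at hz
      omega
    · rw [mul_inv_eq_iff_eq_mul] at h1
      exact h1
  · intro h x
    have h1 : g * z * g⁻¹ = z := by rw [h]; group
    constructor
    · intro hx
      rcases hel x hx with rfl | rfl
      · simp
      · rw [h1]; exact mem_zpowers _
    · intro hx
      have h2 : x = g⁻¹ * (g * x * g⁻¹) * g := by group
      rcases hel _ hx with h3 | h3
      · rw [h3] at h2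
        rw [h2]
        simp
      · rw [h3] at h2
        rw [h2, mul_assoc, ← h, ← mul_assoc, inv_mul_cancel, one_mul]
        exact mem_zpowers _

theorem LocAt.exists_z {Q : Sylow 2 S} {T : Subgroup (MulAut S)} (h : LocAt Q T) (h2 : 2 ∣ Nat.card S) :
    ∃ z : S, orderOf z = 2 ∧ z ∈ Q ∧ (∀ x ∈ Q, z * x = x * z) ∧ (∀ τ ∈ T, τ z = z) ∧
      NC (centralizer ({z} : Set S)) := by
  have hQ1 : Nat.card Q ≠ 1 := by
    intro h1
    have h3 : 2 ∣ Nat.card (Q : Subgroup S) := Q.dvd_card_of_dvd_card h2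
    rw [h1] at h3
    omega
  -- the fixed points of `T` in `Q`
  let act : MulAction T (Q : Subgroup S) :=
    { smul := fun τ x => ⟨(τ : MulAut S) x, by
        have h1 : (τ : MulAut S) x ∈ (Q : Subgroup S).map (τ : MulAut S).toMonoidHom := mem_map_of_mem _ x.2
        rwa [h.inv τ τ.2] at h1⟩
      one_smul := fun x => Subtype.ext rfl
      mul_smul := fun a b x => Subtype.ext rfl }
  have hfix1 : (1 : (Q : Subgroup S)) ∈ MulAction.fixedPoints T (Q : Subgroup S) := by
    intro τ
    exact Subtype.ext (map_one (τ : MulAut S))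
  have hfin : Finite (MulAction.fixedPoints T (Q : Subgroup S)) := inferInstance
  have hcard := h.two.card_modEq_card_fixedPoints (Q : Subgroup S)
  have hdvd : 2 ∣ Nat.card (Q : Subgroup S) := Q.dvd_card_of_dvd_card h2
  have h3 : 2 ∣ Nat.card (MulAction.fixedPoints T (Q : Subgroup S)) :=
    (Nat.modEq_zero_iff_dvd).1 (hcard.symm.trans ((Nat.modEq_zero_iff_dvd).2 hdvd))
  -- the fixed points form a subgroup
  let C : Subgroup S :=
    { carrier := {x | x ∈ Q ∧ ∀ τ ∈ T, (τ : MulAut S) x = x}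
      one_mem' := ⟨one_mem _, fun τ _ => map_one τ⟩
      mul_mem' := fun {a b} ha hb => ⟨mul_mem ha.1 hb.1, fun τ hτ => by rw [map_mul, ha.2 τ hτ, hb.2 τ hτ]⟩
      inv_mem' := fun {a} ha => ⟨inv_mem ha.1, fun τ hτ => by rw [map_inv, ha.2 τ hτ]⟩ }
  have hC : Nat.card C = Nat.card (MulAction.fixedPoints T (Q : Subgroup S)) := by
    refine Nat.card_congr
      { toFun := fun x => ⟨⟨x.1, x.2.1⟩, fun τ => Subtype.ext (x.2.2 τ τ.2)⟩
        invFun := fun x => ⟨x.1.1, x.1.2, fun τ hτ => congrArg Subtype.val (x.2 ⟨τ, hτ⟩)⟩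
        left_inv := fun x => rfl
        right_inv := fun x => rfl }
  rw [← hC] at h3
  obtain ⟨⟨z, hz⟩, hz2⟩ := exists_prime_orderOf_dvd_card' 2 h3
  have hz2' : orderOf z = 2 := by rwa [Subgroup.orderOf_mk] at hz2
  refine ⟨z, hz2', hz.1, ?_, hz.2, ?_⟩
  · intro x hx
    have h4 := hz.2 _ (h.inner x hx)
    rw [MulAut.conj_apply, mul_inv_eq_iff_eq_mul] at h4
    exact h4.symm
  · rw [← normalizer_zpowers_of_two hz2']
    refine h.npc _ ?_ ?_ ?_
    · rw [zpowers_le]; exact hz.1
    · rw [Ne, zpowers_eq_bot]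
      rintro rfl
      rw [orderOf_one] at hz2'
      omega
    · intro τ hτ
      rw [MonoidHom.map_zpowers]
      congr 1
      exact hz.2 τ hτ

/-- **The central involution.** -/
theorem Loc.exists_z (h : Loc S) : ∃ (z : S) (Q : Sylow 2 S), orderOf z = 2 ∧ z ∈ Q ∧ (∀ x ∈ Q, z * x = x * z) ∧
    NC (centralizer ({z} : Set S)) := by
  obtain ⟨Q, T, hT⟩ := h.loc
  obtain ⟨z, h1, h2, h3, -, h4⟩ := hT.exists_z (two_dvd_of_nonsol h.nonsol)
  exact ⟨z, Q, h1, h2, h3, h4⟩

theorem Loc.not_comm (h : Loc S) : ¬ IsMulCommutative S := by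
  intro h1
  apply h.nonsol
  let _ : CommGroup S := { ‹Group S› with mul_comm := h1.1.1 }
  infer_instance

/-- The normalizer of a Sylow 2-subgroup is 2-nilpotent. -/
theorem Loc.normalizer_sylow (h : Loc S) (Q : Sylow 2 S) : NC (normalizer (Q : Set S)) := by
  obtain ⟨Q', T, hT⟩ := h.loc
  have hQ1 : (Q' : Subgroup S) ≠ ⊥ := by
    intro h1
    have h2 : 2 ∣ Nat.card (Q' : Subgroup S) := Q'.dvd_card_of_dvd_card (two_dvd_of_nonsol h.nonsol)
    rw [h1, Subgroup.card_bot] at h2
    omega
  have h1 := hT.npc Q' le_rfl hQ1 hT.inv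
  obtain ⟨g, hg⟩ := MulAction.exists_smul_eq S Q' Q
  have h2 : normalizer ((Q : Subgroup S) : Set S) = (normalizer ((Q' : Subgroup S) : Set S)).map (MulAut.conj g).toMonoidHom := by
    rw [← hg, Sylow.coe_subgroup_smul, Subgroup.pointwise_smul_def]
    exact (Subgroup.map_equiv_normalizer_eq _ (MulAut.conj g)).symm
  change NC (normalizer ((Q : Subgroup S) : Set S))
  rw [h2]
  exact (NC.congr ((normalizer ((Q' : Subgroup S) : Set S)).equivMapOfInjective _ (MulAut.conj g).injective)).1 h1

end Z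

end Cfsg.Agent.H584.NC
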