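import Mathlib
import Cfsg.Agent.H584.NC.Basic
import Cfsg.Agent.Lib.MinNormalNonabelian

/-!
# Components of a nonabelian minimal normal subgroup (S4386)

* `Cmp N C` : `C` is the set of the simple factors of the normal subgroup `N`;
* `Cmp.exists_supplement` : the construction of supplements of `N` from supplements of `T` in `N(T)`.
-/

set_option autoImplicit false

namespace Cfsg.Agent.H584.NC

open Subgroup

universe u v

/-- `C` is the set of the simple factors of the normal subgroup `N`. -/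
structure Cmp {X : Type u} [Group X] (N : Subgroup X) (C : Set (Subgroup X)) : Prop where
  normal : N.Normal
  nonempty : C.Nonempty
  le : ∀ T ∈ C, T ≤ N
  simple : ∀ T ∈ C, IsSimpleGroup T
  center : ∀ T ∈ C, ∀ z ∈ T, (∀ t ∈ T, z * t = t * z) → z = 1
  conj : ∀ T ∈ C, ∀ g : X, T.map (MulAut.conj g).toMonoidHom ∈ C
  trans : ∀ S ∈ C, ∀ T ∈ C, ∃ g : X, T = S.map (MulAut.conj g).toMonoidHom
  comm : ∀ S ∈ C, ∀ T ∈ C, S ≠ T → ∀ x ∈ S, ∀ y ∈ T, x * y = y * x
  sup : sSup C = N
  indep : sSupIndep C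

namespace Cmp

variable {X : Type u} [Group X]

theorem of_minimal [Finite X] (N : Subgroup X) (hN : N.Normal)
    (hmin : ∀ M : Subgroup X, M.Normal → M ≤ N → M = ⊥ ∨ M = N)
    (hna : ¬ ∀ x ∈ N, ∀ y ∈ N, x * y = y * x) : Cmp N (Lib.MinNormalNonabelian.minSet N) := by
  obtain ⟨h1, h2, h3, h4, h5, h6⟩ := Lib.MinNormalNonabelian.nonabelian_structure N hmin hna
  refine ⟨hN, h1, fun T hT => hT.1, h4, h5, fun T hT g => Lib.MinNormalNonabelian.map_conj_mem_minSet hT g, h6, ?_, h3, h2⟩
  intro S hS T hT hST x hx y hy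
  exact Lib.MinNormal.commute_of_mem (K := N) h2 (fun U hU => hU.2.2.1) (fun U hU => hU.1) hS hT hST hx hy

variable {N : Subgroup X} {C : Set (Subgroup X)} (h : Cmp N C)

include h

theorem map_conj_of_mem {T : Subgroup X} {g : X} (hg : g ∈ normalizer (T : Set X)) :
    T.map (MulAut.conj g).toMonoidHom = T := by
  rw [mem_normalizer_iff] at hg
  ext y
  constructor
  · rintro ⟨x, hx, rfl⟩
    exact (hg x).1 hx
  · intro hy
    refine ⟨g⁻¹ * y * g, ?_, ?_⟩
    · have h1 : g * (g⁻¹ * y * g) * g⁻¹ = y := by group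
      exact (hg _).2 (h1.symm ▸ hy)
    · change g * (g⁻¹ * y * g) * g⁻¹ = y
      group

theorem mem_normalizer_of_map {T : Subgroup X} {g : X} (hg : T.map (MulAut.conj g).toMonoidHom = T) :
    g ∈ normalizer (T : Set X) := by
  rw [mem_normalizer_iff]
  intro y
  constructor
  · intro hy
    rw [← hg]
    exact ⟨y, hy, rfl⟩
  · intro hy
    rw [← hg] at hy
    obtain ⟨x, hx, hxy⟩ := hy
    have hxy' : g * x * g⁻¹ = g * y * g⁻¹ := hxy
    have : x = y := mul_left_cancel (mul_right_cancel hxy')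
    exact this ▸ hx

/-- an element which does not normalize `T` moves it to a commuting component -/
theorem comm_of_notMem {T : Subgroup X} (hT : T ∈ C) {g : X} (hg : g ∉ normalizer (T : Set X)) {x y : X} (hx : x ∈ T)
    (hy : y ∈ T) : g * x * g⁻¹ * y = y * (g * x * g⁻¹) := by
  refine h.comm _ (h.conj T hT g) T hT ?_ _ ⟨x, hx, rfl⟩ y hy
  intro h1
  exact hg (h.mem_normalizer_of_map h1)

theorem disjoint {S T : Subgroup X} (hS : S ∈ C) (hT : T ∈ C) (hST : S ≠ T) {x : X} (hxS : x ∈ S) (hxT : x ∈ T) :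
    x = 1 :=
  h.center S hS x hxS fun t ht => (h.comm S hS T hT hST t ht x hxT).symm

/-- `N` normalizes the components. -/
theorem le_normalizer {T : Subgroup X} (hT : T ∈ C) : N ≤ normalizer (T : Set X) := by
  rw [← h.sup]
  refine sSup_le ?_
  intro S hS
  by_cases hST : S = T
  · subst hST
    exact Subgroup.le_normalizer
  · intro x hx
    rw [mem_normalizer_iff]
    intro y
    constructor
    · intro hy
      rw [h.comm S hS T hT hST x hx y hy, mul_inv_cancel_right]
      exact hy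
    · intro hy
      have h1 := h.comm S hS T hT hST x hx _ hy
      have h2 : x * y * x⁻¹ = y := by
        have h3 : x * (x * y * x⁻¹) = x * y := by rw [h1]; group
        exact mul_left_cancel h3
      rwa [h2] at hy

theorem nonsol [Finite X] {T : Subgroup X} (hT : T ∈ C) : ¬ Group.IsSolvable T := by
  intro h1
  have := h.simple T hT
  have h2 := IsSimpleGroup.comm_iff_isSolvable.2 h1
  obtain ⟨x, hx⟩ := exists_ne (1 : T)
  apply hx
  apply Subtype.ext
  refine h.center T hT x x.2 fun t ht => ?_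
  exact congrArg Subtype.val (h2 x ⟨t, ht⟩)

/-- an element which commutes with all components centralizes `N` -/
theorem mem_centralizer {x : X} (hx : ∀ T ∈ C, ∀ t ∈ T, x * t = t * x) : x ∈ centralizer (N : Set X) := by
  have h1 : N ≤ centralizer ({x} : Set X) := by
    rw [← h.sup]
    refine sSup_le fun T hT t ht => ?_
    rw [mem_centralizer_singleton_iff]
    exact (hx T hT t ht).symm
  rw [Subgroup.mem_centralizer_iff]
  intro n hn
  exact mem_centralizer_singleton_iff.1 (h1 hn)

end Cmp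

/-! ### Supplements -/

section Supp

variable {X : Type u} [Group X]

/-- `X ⧸ H → X ⧸ L` -/
abbrev proj {H L : Subgroup X} (hHL : H ≤ L) : X ⧸ H → X ⧸ L := Subgroup.quotientMapOfLE hHL

theorem proj_smul {H L : Subgroup X} (hHL : H ≤ L) (g : X) (ω : X ⧸ H) : proj hHL (g • ω) = g • proj hHL ω := by
  induction ω using QuotientGroup.induction_on with
  | H x => rfl

variable {N : Subgroup X} {C : Set (Subgroup X)} {T H : Subgroup X}

/-- moving one point of a section -/
theorem exists_move_one (h : Cmp N C) (hT : T ∈ C) (hHL : H ≤ normalizer (T : Set X))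
    (hCH : centralizer (T : Set X) ≤ H) (hTH : ∀ l ∈ normalizer (T : Set X), ∃ t ∈ T, ∃ x ∈ H, l = t * x)
    {ω ω' : X ⧸ H} (hω : proj hHL ω = proj hHL ω') :
    ∃ s ∈ N, s • ω = ω' ∧ (∀ ω₁ : X ⧸ H, proj hHL ω₁ ≠ proj hHL ω → s • ω₁ = ω₁) ∧
      (proj hHL ω ≠ QuotientGroup.mk 1 → s ∈ centralizer (T : Set X)) := by
  induction ω using QuotientGroup.induction_on with
  | H a =>
  induction ω' using QuotientGroup.induction_on with
  | H b =>
  have hab : a⁻¹ * b ∈ normalizer (T : Set X) := by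
    have h1 : (QuotientGroup.mk a : X ⧸ normalizer (T : Set X)) = QuotientGroup.mk b := hω
    rwa [QuotientGroup.eq] at h1
  obtain ⟨t, ht, x, hx, htx⟩ := hTH _ hab
  have hconj : ∀ {g : X}, g ∉ normalizer (T : Set X) → g * t * g⁻¹ ∈ centralizer (T : Set X) := by
    intro g hg
    rw [Subgroup.mem_centralizer_iff]
    intro y hy
    exact (h.comm_of_notMem hT hg ht hy).symm
  refine ⟨a * t * a⁻¹, ?_, ?_, ?_, ?_⟩
  · exact h.normal.conj_mem t (h.le T hT ht) a
  · change (QuotientGroup.mk (a * t * a⁻¹ * a) : X ⧸ H) = QuotientGroup.mk b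
    rw [QuotientGroup.eq]
    have h1 : b = a * (t * x) := by rw [← htx]; group
    rw [h1]
    have h2 : (a * t * a⁻¹ * a)⁻¹ * (a * (t * x)) = x := by group
    rw [h2]
    exact hx
  · intro ω₁ hω₁
    induction ω₁ using QuotientGroup.induction_on with
    | H c =>
    change (QuotientGroup.mk (a * t * a⁻¹ * c) : X ⧸ H) = QuotientGroup.mk c
    rw [eq_comm, QuotientGroup.eq]
    have h1 : c⁻¹ * a ∉ normalizer (T : Set X) := by
      intro h2
      apply hω₁
      change (QuotientGroup.mk c : X ⧸ normalizer (T : Set X)) = QuotientGroup.mk a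
      rw [QuotientGroup.eq]
      exact h2
    have h2 : c⁻¹ * (a * t * a⁻¹ * c) = (c⁻¹ * a) * t * (c⁻¹ * a)⁻¹ := by group
    rw [h2]
    exact hCH (hconj h1)
  · intro h1
    apply hconj
    intro h2
    apply h1
    change (QuotientGroup.mk a : X ⧸ normalizer (T : Set X)) = QuotientGroup.mk 1
    rw [eq_comm, QuotientGroup.eq, inv_one, one_mul]
    exact h2

/-- moving a section -/
theorem exists_move [Finite X] (h : Cmp N C) (hT : T ∈ C) (hHL : H ≤ normalizer (T : Set X))
    (hCH : centralizer (T : Set X) ≤ H) (hTH : ∀ l ∈ normalizer (T : Set X), ∃ t ∈ T, ∃ x ∈ H, l = t * x)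
    (σ τ : X ⧸ normalizer (T : Set X) → X ⧸ H) (hσ : ∀ y, proj hHL (σ y) = y) (hτ : ∀ y, proj hHL (τ y) = y)
    (F : Set (X ⧸ normalizer (T : Set X))) :
    ∃ n ∈ N, (∀ y ∈ F, n • σ y = τ y) ∧ (∀ y ∉ F, n • σ y = σ y) ∧
      (QuotientGroup.mk 1 ∉ F → n ∈ centralizer (T : Set X)) := by
  have hfin : F.Finite := Set.toFinite F
  induction F, hfin using Set.Finite.induction_on with
  | empty =>
    exact ⟨1, one_mem _, fun y hy => absurd hy (Set.notMem_empty y), fun y _ => one_smul _ _, fun _ => one_mem _⟩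
  | @insert y F hy _ ih =>
    obtain ⟨n, hn, h1, h2, h3⟩ := ih
    obtain ⟨s, hs, hs1, hs2, hs3⟩ := exists_move_one h hT hHL hCH hTH (ω := σ y) (ω' := τ y) (by rw [hσ, hτ])
    rw [hσ] at hs2 hs3
    refine ⟨s * n, mul_mem hs hn, ?_, ?_, ?_⟩
    · rintro y' (rfl | hy')
      · rw [mul_smul, h2 _ hy, hs1]
      · rw [mul_smul, h1 y' hy']
        apply hs2
        rw [hτ]
        rintro rfl
        exact hy hy'
    · intro y' hy'
      rw [Set.mem_insert_iff, not_or] at hy'
      rw [mul_smul, h2 y' hy'.2]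
      apply hs2
      rw [hσ]
      exact hy'.1
    · intro h4
      rw [Set.mem_insert_iff, not_or] at h4
      exact mul_mem (hs3 (fun h5 => h4.1 h5.symm)) (h3 h4.2)

/-- **Supplements of `N` from supplements of a component in its normalizer.** -/
theorem Cmp.exists_supplement [Finite X] (h : Cmp N C) (hT : T ∈ C) (hHL : H ≤ normalizer (T : Set X))
    (hCH : centralizer (T : Set X) ≤ H) (hTH : ∀ l ∈ normalizer (T : Set X), ∃ t ∈ T, ∃ x ∈ H, l = t * x)
    (hne : ¬ T ≤ H) :
    ∃ M : Subgroup X, M ≠ ⊤ ∧ N ⊔ M = ⊤ ∧ ∀ x ∈ H, ∃ c ∈ centralizer (T : Set X), c * x ∈ M := by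
  classical
  -- a section
  let σ : X ⧸ normalizer (T : Set X) → X ⧸ H := fun y => if y = QuotientGroup.mk 1 then QuotientGroup.mk 1 else QuotientGroup.mk y.out
  have hσ1 : σ (QuotientGroup.mk 1) = QuotientGroup.mk 1 := if_pos rfl
  have hσ : ∀ y, proj hHL (σ y) = y := by
    intro y
    by_cases hy : y = QuotientGroup.mk 1
    · subst hy
      rw [hσ1]
      rfl
    · have h1 : σ y = QuotientGroup.mk y.out := if_neg hy
      rw [h1]
      exact Quotient.out_eq' y
  let M : Subgroup X :=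
    { carrier := {g | ∀ y, g • σ y = σ (g • y)}
      one_mem' := fun y => by rw [one_smul, one_smul]
      mul_mem' := fun {a b} ha hb y => by rw [mul_smul, hb, ha, mul_smul]
      inv_mem' := fun {a} ha y => by
        rw [inv_smul_eq_iff, ha, smul_inv_smul] }
  have hM : ∀ g, g ∈ M ↔ ∀ y, g • σ y = σ (g • y) := fun g => Iff.rfl
  -- `N` acts trivially on the cosets of the normalizer
  have hNtriv : ∀ n ∈ N, ∀ y : X ⧸ normalizer (T : Set X), n • y = y := by
    intro n hn y
    induction y using QuotientGroup.induction_on with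
    | H a =>
    change (QuotientGroup.mk (n * a) : X ⧸ normalizer (T : Set X)) = QuotientGroup.mk a
    rw [eq_comm, QuotientGroup.eq]
    apply h.le_normalizer hT
    have h1 := h.normal.conj_mem n hn a⁻¹
    rwa [inv_inv, mul_assoc] at h1
  -- the key step
  have key : ∀ g : X, ∀ F : Set (X ⧸ normalizer (T : Set X)),
      (∀ y ∉ F, g • σ (g⁻¹ • y) = σ y) → ∃ n ∈ N, n⁻¹ * g ∈ M ∧ (QuotientGroup.mk 1 ∉ F → n ∈ centralizer (T : Set X)) := by
    intro g F hF
    obtain ⟨n, hn, h1, h2, h3⟩ := exists_move h hT hHL hCH hTH σ (fun y => g • σ (g⁻¹ • y)) hσ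
      (fun y => by rw [proj_smul, hσ, smul_inv_smul]) F
    refine ⟨n, hn, ?_, h3⟩
    have h4 : ∀ y, n • σ y = g • σ (g⁻¹ • y) := by
      intro y
      by_cases hy : y ∈ F
      · exact h1 y hy
      · rw [h2 y hy, hF y hy]
    rw [hM]
    intro y
    rw [mul_smul, mul_smul, hNtriv n⁻¹ (inv_mem hn), inv_smul_eq_iff, h4, inv_smul_smul]
  refine ⟨M, ?_, ?_, ?_⟩
  · intro htop
    apply hne
    intro t ht
    have h1 : t ∈ M := htop ▸ mem_top t
    have h2 := (hM t).1 h1 (QuotientGroup.mk 1)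
    have h3 : t • (QuotientGroup.mk 1 : X ⧸ normalizer (T : Set X)) = QuotientGroup.mk 1 := hNtriv t (h.le T hT ht) _
    rw [h3, hσ1] at h2
    have h4 : (QuotientGroup.mk (t * 1) : X ⧸ H) = QuotientGroup.mk 1 := h2
    rw [QuotientGroup.eq, mul_one, mul_one, inv_mem_iff] at h4
    exact h4
  · rw [eq_top_iff]
    intro g _
    obtain ⟨n, hn, h1, -⟩ := key g Set.univ (fun y hy => absurd (Set.mem_univ y) hy)
    have h2 : g = n * (n⁻¹ * g) := by group
    rw [h2]
    exact mul_mem_sup hn h1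
  · intro x hx
    obtain ⟨n, hn, h1, h2⟩ := key x {QuotientGroup.mk 1}ᶜ (by
      intro y hy
      rw [Set.notMem_compl_iff, Set.mem_singleton_iff] at hy
      subst hy
      have h3 : x⁻¹ • (QuotientGroup.mk 1 : X ⧸ normalizer (T : Set X)) = QuotientGroup.mk 1 := by
        change (QuotientGroup.mk (x⁻¹ * 1) : X ⧸ normalizer (T : Set X)) = QuotientGroup.mk 1
        rw [QuotientGroup.eq, mul_one, mul_one, inv_inv]
        exact hHL hx
      rw [h3, hσ1]
      change (QuotientGroup.mk (x * 1) : X ⧸ H) = QuotientGroup.mk 1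
      rw [QuotientGroup.eq, mul_one, mul_one, inv_mem_iff]
      exact hx)
    refine ⟨n⁻¹, inv_mem (h2 ?_), h1⟩
    rw [Set.notMem_compl_iff]
    rfl

end Supp

end Cfsg.Agent.H584.NC
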