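import Mathlib
import Cfsg.Agent.H584.NC.Basic

/-!
# Almost simple groups with a maximal subgroup of prime index which is not 2-nilpotent (S4386)

`PI S M r` : see `Basic`. Consequences:

* `PI.exists_over` : a proper supplement `H` of `S` which is not 2-nilpotent lies in a maximal subgroup `K` of index `r`,
  and `r` does not divide `|K|`; in particular `K` is not transitive on `G ⧸ M`.
* `Lin` : the data of the linear case, `FixSub`, `ColInv` : two facts proved elsewhere.
-/

set_option autoImplicit false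

namespace Cfsg.Agent.H584.NC

open Subgroup
open scoped LinearAlgebra.Projectivization

universe u v

/-- A normal subgroup `S` with `S ⊔ K = ⊤` is transitive on `G ⧸ K`. -/
theorem transitive_of_sup {G : Type u} [Group G] {S K : Subgroup G} (hS : S.Normal) (hsup : S ⊔ K = ⊤) :
    MulAction.IsPretransitive S (G ⧸ K) := by
  constructor
  have key : ∀ y : G ⧸ K, ∃ s : S, s • (QuotientGroup.mk (1 : G) : G ⧸ K) = y := by
    intro y
    induction y using QuotientGroup.induction_on with
    | H g =>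
      have hg : g ∈ S ⊔ K := hsup ▸ mem_top g
      rw [mem_sup_of_normal_left] at hg
      obtain ⟨s, hs, m, hm, rfl⟩ := hg
      refine ⟨⟨s, hs⟩, ?_⟩
      change (QuotientGroup.mk (s * 1) : G ⧸ K) = QuotientGroup.mk (s * m)
      rw [QuotientGroup.eq, mul_one, inv_mul_cancel_left]
      exact hm
  intro x y
  obtain ⟨s, rfl⟩ := key x
  obtain ⟨t, rfl⟩ := key y
  exact ⟨t * s⁻¹, by rw [mul_smul, inv_smul_smul]⟩

theorem relIndex_of_sup {G : Type u} [Group G] {S K : Subgroup G} (hS : S.Normal) (hsup : S ⊔ K = ⊤) :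
    K.relIndex S = K.index := by
  have := transitive_of_sup hS hsup
  have h1 := MulAction.index_stabilizer_of_transitive S (QuotientGroup.mk (1 : G) : G ⧸ K)
  have h2 : MulAction.stabilizer S (QuotientGroup.mk (1 : G) : G ⧸ K) = K.subgroupOf S := by
    ext s
    rw [MulAction.mem_stabilizer_iff, mem_subgroupOf]
    change (QuotientGroup.mk ((s : G) * 1) : G ⧸ K) = QuotientGroup.mk 1 ↔ _
    rw [QuotientGroup.eq, mul_one, mul_one, inv_mem_iff]
  rw [h2] at h1
  exact h1

namespace PI

variable {G : Type u} [Group G] [Finite G] {S M : Subgroup G} {r : ℕ}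

theorem not_nc_S (h : PI S M r) : ¬ NC S := not_nc_of_nonsol h.nonsol

/-- maximal supplements have trivial core -/
theorem core (h : PI S M r) {K : Subgroup G} (hK : K ≠ ⊤) (hsup : S ⊔ K = ⊤) : K.normalCore = ⊥ := by
  have := h.simple
  have := h.normal
  have h1 : (K.normalCore.subgroupOf S).Normal := (inferInstance : K.normalCore.Normal).subgroupOf S
  rcases h1.eq_bot_or_eq_top with h2 | h2
  · rw [subgroupOf_eq_bot, disjoint_iff] at h2
    rw [eq_bot_iff]
    have h3 : K.normalCore ≤ centralizer (S : Set G) := by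
      have h4 := commutator_le_inf K.normalCore S
      rw [h2, le_bot_iff, commutator_eq_bot_iff_le_centralizer] at h4
      exact h4
    rw [h.cent] at h3
    exact h3
  · exfalso
    apply hK
    rw [subgroupOf_eq_top] at h2
    rw [← hsup]
    exact (sup_eq_right.2 (h2.trans K.normalCore_le)).symm

theorem faithful (h : PI S M r) {K : Subgroup G} (hK : K ≠ ⊤) (hsup : S ⊔ K = ⊤) : FaithfulSMul G (G ⧸ K) := by
  constructor
  intro a b hab
  have h1 : a⁻¹ * b ∈ K.normalCore := by
    intro g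
    have h2 := hab (QuotientGroup.mk g⁻¹ : G ⧸ K)
    have h3 : (QuotientGroup.mk (a * g⁻¹) : G ⧸ K) = QuotientGroup.mk (b * g⁻¹) := h2
    rw [QuotientGroup.eq] at h3
    have h4 : g * (a⁻¹ * b) * g⁻¹ = (a * g⁻¹)⁻¹ * (b * g⁻¹) := by group
    rw [h4]
    exact h3
  rw [h.core hK hsup, mem_bot, inv_mul_eq_one] at h1
  exact h1

theorem card_dvd (h : PI S M r) {K : Subgroup G} (hK : K ≠ ⊤) (hsup : S ⊔ K = ⊤) :
    Nat.card G ∣ (K.index).factorial := by
  have hf := h.faithful hK hsup
  have h1 : Function.Injective (MulAction.toPermHom G (G ⧸ K)) := MulAction.toPerm_injective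
  have h2 := Subgroup.card_dvd_of_injective _ h1
  rwa [Nat.card_perm] at h2

theorem prime_le (h : PI S M r) {K : Subgroup G} (hK : K ≠ ⊤) (hsup : S ⊔ K = ⊤) {q : ℕ} (hq : q.Prime)
    (hqG : q ∣ Nat.card G) : q ≤ K.index :=
  (hq.dvd_factorial).1 (hqG.trans (h.card_dvd hK hsup))

theorem M_ne_top (h : PI S M r) : M ≠ ⊤ := h.coatom.1

/-- the prime index is `r` -/
theorem index_eq (h : PI S M r) {K : Subgroup G} (hsup : S ⊔ K = ⊤) (hp : K.index.Prime) :
    K.index = r := by
  have hK : K ≠ ⊤ := by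
    rintro rfl
    rw [index_top] at hp
    exact Nat.not_prime_one hp
  apply le_antisymm
  · have := h.prime_le h.M_ne_top h.sup hp (index_dvd_card K)
    rwa [h.index] at this
  · have h1 : r ∣ Nat.card G := h.index ▸ index_dvd_card M
    exact h.prime_le hK hsup h.prime h1

theorem dvd_card (h : PI S M r) : r ∣ Nat.card G := h.index ▸ index_dvd_card M

theorem not_sq_dvd (h : PI S M r) : ¬ r ^ 2 ∣ Nat.card G := by
  intro h1
  have h2 := h1.trans (h.card_dvd h.M_ne_top h.sup)
  rw [h.index] at h2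
  obtain ⟨k, rfl⟩ : ∃ k, r = k + 1 := ⟨r - 1, by have := h.prime.pos; omega⟩
  rw [Nat.factorial_succ, pow_two] at h2
  have h3 : (k + 1) ∣ k.factorial := Nat.dvd_of_mul_dvd_mul_left (Nat.succ_pos k) h2
  have := (h.prime.dvd_factorial).1 h3
  omega

theorem not_dvd (h : PI S M r) {K : Subgroup G} (hK : K.index = r) : ¬ r ∣ Nat.card K := by
  intro h1
  apply h.not_sq_dvd
  rw [← K.card_mul_index, hK, pow_two]
  exact Nat.mul_dvd_mul_right h1 r

theorem relIndex (h : PI S M r) {K : Subgroup G} (hsup : S ⊔ K = ⊤) : K.relIndex S = K.index :=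
  relIndex_of_sup h.normal hsup

/-- the index in `S` of a maximal supplement of index `r` -/
theorem index_subgroupOf (h : PI S M r) {K : Subgroup G} (hsup : S ⊔ K = ⊤) (hK : K.index = r) :
    (K.subgroupOf S).index = r := by
  rw [← hK, ← h.relIndex hsup]
  rfl

/-- **The way to use the hypotheses.** -/
theorem exists_over (h : PI S M r) {H : Subgroup G} (hnc : ¬ NC H) (hsup : S ⊔ H = ⊤) (hne : H ≠ ⊤) :
    ∃ K : Subgroup G, IsCoatom K ∧ H ≤ K ∧ S ⊔ K = ⊤ ∧ K.index = r ∧ ¬ r ∣ Nat.card K := by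
  obtain ⟨K, hK, hHK⟩ := (eq_top_or_exists_le_coatom H).resolve_left hne
  have h1 : S ⊔ K = ⊤ := top_le_iff.1 (hsup ▸ sup_le_sup_left hHK S)
  rcases h.max K hK h1 with h2 | h2
  · exact absurd (h2.to_le hHK) hnc
  · have h3 := h.index_eq h1 h2
    exact ⟨K, hK, hHK, h1, h3, h.not_dvd h3⟩

/-- a subgroup of order prime to `r` is not transitive on `G ⧸ M` -/
theorem not_transitive (h : PI S M r) {K : Subgroup G} (hK : ¬ r ∣ Nat.card K) :
    ¬ MulAction.IsPretransitive K (G ⧸ M) := by
  intro h1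
  apply hK
  have h2 := MulAction.index_stabilizer_of_transitive K (QuotientGroup.mk (1 : G) : G ⧸ M)
  rw [← h.index]
  change Nat.card (G ⧸ M) ∣ _
  rw [← h2]
  exact Subgroup.index_dvd_card _

theorem card_points (h : PI S M r) : Nat.card (G ⧸ M) = r := h.index

/-- `S` is transitive. -/
theorem transitive_S (h : PI S M r) : MulAction.IsPretransitive S (G ⧸ M) :=
  transitive_of_sup h.normal h.sup

/-- Frattini: a supplement from an invariant `S`-orbit: if every `g • x` is `s • x`. -/
theorem sup_of_orbit {X : Type v} [MulAction G X] {x : X} (hx : ∀ g : G, ∃ s ∈ S, g • x = s • x) :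
    S ⊔ MulAction.stabilizer G x = ⊤ := by
  rw [eq_top_iff]
  intro g _
  obtain ⟨s, hs, h1⟩ := hx g
  have h2 : s⁻¹ * g ∈ MulAction.stabilizer G x := by
    rw [MulAction.mem_stabilizer_iff, mul_smul, h1, inv_smul_smul]
  have h3 : g = s * (s⁻¹ * g) := by group
  rw [h3]
  exact mul_mem_sup hs h2

end PI

/-! ### the linear case -/

/-- The data of the linear case: `S ≃* PSL d F` acts on `G ⧸ M` as on the points of the projective space. -/
structure Lin {G : Type u} [Group G] (S M : Subgroup G) (r : ℕ) (F : Type) [Field F] [Fintype F] (d : ℕ)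
    (e : S ≃* Matrix.ProjectiveSpecialLinearGroup (Fin d) F) (Φ : (G ⧸ M) ≃ ℙ F (Fin d → F)) : Prop where
  pi : PI S M r
  equiv : ∀ (t : S) (ω : G ⧸ M), Φ (t • ω) = e t • Φ ω
  two_le : 2 ≤ d
  card : Fintype.card F ^ d - 1 = r * (Fintype.card F - 1)

/-- A subgroup of index `r` fixes a proper non-zero subspace. -/
def FixSub {G : Type u} [Group G] (S M : Subgroup G) (r : ℕ) (F : Type) [Field F] (d : ℕ)
    (Φ : (G ⧸ M) ≃ ℙ F (Fin d → F)) : Prop :=
  ∀ K : Subgroup G, K.index = r → S ⊔ K = ⊤ → ∃ W : Submodule F (Fin d → F), W ≠ ⊥ ∧ W ≠ ⊤ ∧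
    ∀ s : S, (s : G) ∈ K → ∀ ω : G ⧸ M, (Φ ω).submodule ≤ W → (Φ (s • ω)).submodule ≤ W

/-- `G` preserves the lines. -/
def ColInv {G : Type u} [Group G] (M : Subgroup G) (F : Type) [Field F] (d : ℕ)
    (Φ : (G ⧸ M) ≃ ℙ F (Fin d → F)) : Prop :=
  ∀ (g : G) (a b c : G ⧸ M), (Φ c).submodule ≤ (Φ a).submodule ⊔ (Φ b).submodule →
    (Φ (g • c)).submodule ≤ (Φ (g • a)).submodule ⊔ (Φ (g • b)).submodule

end Cfsg.Agent.H584.NC
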