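import Mathlib
import Cfsg.Agent.H859.PI.LinThree

/-!
# The linear case `d = 3`, `q = 2` (S4386)
-/

set_option autoImplicit false

namespace Cfsg.Agent.H584.NC

open Subgroup Cfsg.Agent.H859.PI Cfsg.Agent.H859.PI.Three
open scoped LinearAlgebra.Projectivization

universe u

variable {G : Type u} [Group G] [Finite G] {S M : Subgroup G} {r : ℕ} {F : Type} [Field F] [Fintype F]

theorem lin_three_two {e : S ≃* Matrix.ProjectiveSpecialLinearGroup (Fin 3) F} {Φ : (G ⧸ M) ≃ ℙ F (Fin 3 → F)}
    (h : Lin S M r F 3 e Φ) (hcol : ColInv M F 3 Φ) (hq : Fintype.card F = 2) : S = ⊤ := by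
  have hchar : CharP F 2 := by
    obtain ⟨p, hp⟩ := CharP.exists F
    obtain ⟨n, hpp, hn⟩ := FiniteField.card F p
    rw [hq] at hn
    have h1 : p ∣ 2 := hn ▸ dvd_pow_self p n.ne_zero
    have h2 : p = 2 := (Nat.prime_dvd_prime_iff_eq hpp Nat.prime_two).1 h1
    exact h2 ▸ hp
  have hsq : ∀ x : F, x ^ 2 = x := by
    intro x
    have := FiniteField.pow_card x
    rwa [hq] at this
  have h01' : ∀ x : F, x = 0 ∨ x = 1 := by
    intro x
    have h1 : x * (x - 1) = 0 := by linear_combination hsq x
    rcases mul_eq_zero.1 h1 with h2 | h2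
    · exact Or.inl h2
    · exact Or.inr (sub_eq_zero.1 h2)
  have hroot : ∀ a : F, a ≠ 0 → ∃ b : F, b ^ 3 = a := by
    intro a ha
    refine ⟨1, ?_⟩
    rw [one_pow]
    exact ((h01' a).resolve_left ha).symm
  rw [eq_top_iff]
  intro g _
  obtain ⟨A, hE, hU⟩ := exists_fix_three h hcol hroot g
  have hall : ∀ p, rho Φ ((sig e A)⁻¹ * g) p = p := by
    intro p
    induction p using Projectivization.ind with
    | h v hv =>
    have heq : ∀ (w : Fin 3 → F) (hw : w ≠ 0), v = w →
        rho Φ ((sig e A)⁻¹ * g) (Projectivization.mk F w hw) = Projectivization.mk F w hw →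
        rho Φ ((sig e A)⁻¹ * g) (Projectivization.mk F v hv) = Projectivization.mk F v hv := by
      rintro w hw rfl h3
      exact h3
    rcases h01' (v 0) with a0 | a0 <;> rcases h01' (v 1) with a1 | a1 <;> rcases h01' (v 2) with a2 | a2
    · exfalso
      apply hv
      funext i
      fin_cases i
      · exact a0
      · exact a1
      · exact a2
    · exact heq _ _ (by funext i; fin_cases i <;> simp [a0, a1, a2]) (hE 2)
    · exact heq _ _ (by funext i; fin_cases i <;> simp [a0, a1, a2]) (hE 1)
    · exact fix_diag hcol hE hU 0 1 2 (by decide) (by decide) hv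
        (by funext i; fin_cases i <;> simp [a0, a1, a2])
        (by funext i; fin_cases i <;> simp [a0, a1, a2, CharTwo.add_self_eq_zero])
    · exact heq _ _ (by funext i; fin_cases i <;> simp [a0, a1, a2]) (hE 0)
    · exact fix_diag hcol hE hU 1 0 2 (by decide) (by decide) hv
        (by funext i; fin_cases i <;> simp [a0, a1, a2])
        (by funext i; fin_cases i <;> simp [a0, a1, a2, CharTwo.add_self_eq_zero])
    · exact fix_diag hcol hE hU 2 0 1 (by decide) (by decide) hv
        (by funext i; fin_cases i <;> simp [a0, a1, a2])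
        (by funext i; fin_cases i <;> simp [a0, a1, a2, CharTwo.add_self_eq_zero])
    · exact heq 1 ones_ne_zero (by funext i; fin_cases i <;> simp [a0, a1, a2]) hU
  have h1 := rho_faithful h hall
  rw [inv_mul_eq_one] at h1
  exact h1 ▸ sig_mem e A

end Cfsg.Agent.H584.NC
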