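import Mathlib
import Cfsg.Agent.H584.NC.Basic
import Cfsg.Agent.S0072
import Cfsg.Agent.H55.OutGen
import Cfsg.Agent.S2060
import Cfsg.Agent.S2063
import Cfsg.Agent.S2064
import Cfsg.Agent.S2065
import Cfsg.Agent.S2068
import Cfsg.Agent.S2069
import Cfsg.Agent.S2070
import Cfsg.Agent.S2071
import Cfsg.Agent.S2076
import Cfsg.Agent.S2077
import Cfsg.Agent.S2080
import Cfsg.Agent.S2083
import Cfsg.Agent.S2084
import Cfsg.Agent.S2085

/-!
# Simple groups with trivial outer automorphism group (S4386)

`Loc.false_of_out` : `Out(S) = 1` contradicts `Loc S`; the sporadic groups with trivial outer automorphism group.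
-/

set_option autoImplicit false

namespace Cfsg.Agent.H584.NC

open Subgroup Cfsg

universe u v

/-- Frobenius: if all proper subgroups are 2-nilpotent, a simple group is solvable. -/
theorem nc_of_proper {S : Type u} [Group S] [Finite S] (hs : IsSimpleGroup S) (h : ∀ H : Subgroup S, H ≠ ⊤ → NC H) :
    Group.IsSolvable S := by
  by_contra hns
  have hnc : NC S := by
    rw [NC, S0072.result 2]
    intro Q hQ hQ1
    apply h
    intro htop
    have hn : Q.Normal := normalizer_eq_top_iff.1 htop
    rcases hn.eq_bot_or_eq_top with h1 | h1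
    · exact hQ1 h1
    · apply hns
      subst h1
      have h2 : IsPGroup 2 S := hQ.of_equiv topEquiv
      have := h2.isNilpotent
      infer_instance
  exact hns hnc.solvable

/-- **Trivial outer automorphism group.** -/
theorem Loc.false_of_inner {S : Type u} [Group S] [Finite S] (h : Loc S)
    (hout : ∀ α : MulAut S, ∃ s : S, α = MulAut.conj s) : False := by
  apply h.nonsol
  apply nc_of_proper h.simple
  intro H hH
  refine h.star H hH ?_
  intro α
  obtain ⟨s, rfl⟩ := hout α
  exact ⟨s, rfl⟩

theorem Loc.false_of_out {S : Type u} [Group S] [Finite S] (h : Loc S) (hout : Nat.card (Out S) = 1) : False := by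
  apply h.false_of_inner
  intro α
  have h1 : Subsingleton (Out S) := (Nat.card_eq_one_iff_unique.1 hout).1
  have h2 : (QuotientGroup.mk α : Out S) = QuotientGroup.mk 1 := Subsingleton.elim _ _
  rw [eq_comm, QuotientGroup.eq, inv_one, one_mul] at h2
  obtain ⟨s, hs⟩ := h2
  exact ⟨s, hs.symm⟩

theorem Loc.false_of_iso {S : Type u} [Group S] [Finite S] (h : Loc S) {X : Type*} [Group X] (e : Nonempty (S ≃* X))
    (hX : Nat.card (Out X) = 1) : False := by
  obtain ⟨e⟩ := e
  exact h.false_of_out (by rw [H55.OutGen.card_out_congr e, hX])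

/-- **The sporadic groups with trivial outer automorphism group.** -/
theorem Loc.false_of_spor_one {S : Type u} [Group S] [Finite S] (h : Loc S)
    (hS : Spor.IsoM11 S ∨ Spor.IsoM23 S ∨ Spor.IsoM24 S ∨ Spor.IsoJ1 S ∨ Spor.IsoJ4 S ∨ Spor.IsoCo1 S ∨ Spor.IsoCo2 S ∨
      Spor.IsoCo3 S ∨ Spor.IsoRu S ∨ Spor.IsoLy S ∨ Spor.IsoFi23 S ∨ Spor.IsoTh S ∨ Spor.IsoB S ∨ Spor.IsoM S) :
    False := by
  rcases hS with hS | hS | hS | hS | hS | hS | hS | hS | hS | hS | hS | hS | hS | hS
  · exact h.false_of_iso hS S2060.result
  · exact h.false_of_iso hS S2063.result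
  · exact h.false_of_iso hS S2064.result
  · exact h.false_of_iso hS S2065.result
  · exact h.false_of_iso hS S2068.result
  · exact h.false_of_iso hS S2069.result
  · exact h.false_of_iso hS S2070.result
  · exact h.false_of_iso hS S2071.result
  · exact h.false_of_iso hS S2077.result
  · exact h.false_of_iso hS S2076.result
  · exact h.false_of_iso hS S2080.result
  · exact h.false_of_iso hS S2083.result
  · exact h.false_of_iso hS S2084.result
  · exact h.false_of_iso hS S2085.result

end Cfsg.Agent.H584.NC
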