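import Mathlib
import Cfsg.Agent.S0000
import Cfsg.Agent.S1157
import Cfsg.Agent.Mrg.Omega.ML.AltRow
import Cfsg.Agent.OddHalf.LieOddFam
import Cfsg.Agent.OddHalf.LongSL.Rk
import Cfsg.Agent.H584.NC.OutOne
import Cfsg.Agent.H257.NC.CharTwo
import Cfsg.Agent.H559.NotLong
import Cfsg.Agent.H161.L2Sub
import Cfsg.Agent.H813.NCSpor.Small
import Cfsg.Agent.H813.NCSpor.Rows
import Cfsg.Agent.H991.NCAlt
import Cfsg.Agent.H991.NCTits

/-!
# `Loc S` implies `IsL2 S` (S4386)
-/

set_option autoImplicit false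

namespace Cfsg.Agent.H584.NC

open Subgroup Cfsg

universe u v

/-- the Ree groups: the normalizer of a Sylow 2-subgroup has order 168, its centralizer is the Sylow subgroup -/
theorem not_ree {S : Type u} [Group S] [Finite S] (h : Loc S) : ¬ Lie.IsoRee S := by
  rintro ⟨K, i1, i2, m, hm, hK, ⟨e⟩⟩
  obtain ⟨Q⟩ : Nonempty (Sylow 2 S) := inferInstance
  have hfin : Finite ↥(Cfsg.Lie.twistedG2 K (3 ^ m)) := Finite.of_equiv S e.toEquiv
  obtain ⟨Q'⟩ : Nonempty (Sylow 2 ↥(Cfsg.Lie.twistedG2 K (3 ^ m))) := inferInstance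
  obtain ⟨hc, hcard⟩ := S1157.result hm hK Q'
  set X := ↥(Cfsg.Lie.twistedG2 K (3 ^ m)) with hX
  -- transport of the 2-nilpotency
  have hnc : NC (normalizer ((Q' : Subgroup X) : Set X)) := by
    have hP : IsPGroup 2 ((Q' : Subgroup X).map e.symm.toMonoidHom : Subgroup S) := Q'.isPGroup'.map _
    obtain ⟨P, hP⟩ := hP.exists_le_sylow
    have hPc : Nat.card (P : Subgroup S) = Nat.card (Q' : Subgroup X) := by
      rw [P.card_eq_multiplicity, Q'.card_eq_multiplicity, Nat.card_congr e.toEquiv]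
    have hPe : (Q' : Subgroup X).map e.symm.toMonoidHom = P := by
      apply Subgroup.eq_of_le_of_card_ge hP
      rw [hPc, Subgroup.card_map_of_injective e.symm.injective]
    have h1 := h.normalizer_sylow P
    have h2 : normalizer ((P : Subgroup S) : Set S) =
        (normalizer ((Q' : Subgroup X) : Set X)).map e.symm.toMonoidHom := by
      rw [← hPe]
      exact (Subgroup.map_equiv_normalizer_eq _ e.symm).symm
    have h3 : NC (normalizer ((P : Subgroup S) : Set S)) := h1
    rw [h2] at h3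
    exact (NC.congr ((normalizer ((Q' : Subgroup X) : Set X)).equivMapOfInjective _ e.symm.injective)).2 h3
  -- an element of order 7
  have h7 : 7 ∣ Nat.card (normalizer ((Q' : Subgroup X) : Set X)) := by
    rw [hcard]; norm_num
  have : Fact (Nat.Prime 7) := ⟨by norm_num⟩
  obtain ⟨⟨x, hx⟩, hx7⟩ := exists_prime_orderOf_dvd_card' 7 h7
  rw [Subgroup.orderOf_mk] at hx7
  have hxc : x ∈ centralizer ((Q' : Subgroup X) : Set X) := by
    rw [Subgroup.mem_centralizer_iff]
    intro y hy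
    exact (hnc.comm' Subgroup.le_normalizer Q'.isPGroup' hx (by rw [hx7]; decide)
      (fun y hy => (mem_normalizer_iff.1 hx y).1 hy) hy).symm
  rw [hc] at hxc
  obtain ⟨k, hk⟩ := Q'.isPGroup' ⟨x, hxc⟩
  have hk' : x ^ 2 ^ k = 1 := congrArg Subtype.val hk
  have h8 := orderOf_dvd_of_pow_eq_one hk'
  rw [hx7] at h8
  have h9 := (Nat.prime_dvd_prime_iff_eq (by norm_num) Nat.prime_two).1 ((by norm_num : Nat.Prime 7).dvd_of_dvd_pow h8)
  omega

/-- **The simple groups.** -/
theorem loc_main (S : Type u) [Group S] [Finite S] (h : Loc S) : IsL2 S := by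
  have hs := h.simple
  have hk : IsKnownSimple' S := S0000.result
  rcases Omega.ML.Known.cases hk with h1 | h1 | ⟨h1, -⟩ | h1 | ⟨n, hn, -, h1⟩ | h1 | h1
  · exfalso
    apply h.nonsol
    have hf : Fact (Nat.card S).Prime := ⟨h1⟩
    have hcyc : IsCyclic S := isCyclic_of_prime_card (p := Nat.card S) rfl
    let _ : CommGroup S := hcyc.commGroup
    infer_instance
  · exact H257.LocTwo.charTwo h h1
  · by_cases ha : IsAlternating S
    · exact H991.NCF.altLoc h ha
    · rcases OddHalf.LieOddFam.lieOdd_cases h1 ha with h2 | h2 | h2 | ⟨q, hq, h2⟩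
      · obtain ⟨F, i1, i2, hF, ⟨e⟩⟩ := h2
        exact H161.L2Sub.psl2 h (by rw [hF]; decide) e
      · obtain ⟨F, i1, i2, hF, -, ⟨e⟩⟩ := h2
        exact H161.L2Sub.psl2 h hF e
      · exact absurd h2 (not_ree h)
      · exact absurd (OddHalf.LongSL.hasLong_of_rk hq h2) (H559.NotLong.not_long h)
  · exact H991.NCF.altLoc h ⟨6, by norm_num, h1⟩
  · exact H991.NCF.altLoc h ⟨n, by omega, h1⟩
  · exact absurd h1 (H991.NCF.not_tits h)
  · obtain ⟨a1, a2, a3, a4⟩ := H813.NCSpor.not_spor_a h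
    obtain ⟨b1, b2, b3, b4⟩ := H813.NCSpor.not_spor_b h
    obtain ⟨c1, c2, c3, c4⟩ := H813.NCSpor.not_spor_c h
    have hone := h.false_of_spor_one
    exfalso
    unfold IsSporadicGroup at h1
    tauto

end Cfsg.Agent.H584.NC
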