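import Mathlib
import Cfsg.Agent.S0000
import Cfsg.Agent.S0255
import Cfsg.Agent.H410.PrimeIndex
import Cfsg.Agent.H584.NC.FanoPI
import Cfsg.Agent.H859.PI.LinTwo
import Cfsg.Agent.H852.NCPsl11
import Cfsg.Agent.H852.NCMathieu
import Cfsg.Agent.H991.NCAltPI
import Cfsg.Agent.H991.NCFive

/-!
# `PI S M r` implies `PIConcl S` (S4386)
-/

set_option autoImplicit false

namespace Cfsg.Agent.H584.NC

open Subgroup Cfsg
open scoped LinearAlgebra.Projectivization

universe u v

theorem PI.hyp {G : Type u} [Group G] [Finite G] {S M : Subgroup G} {r : ℕ} (h : PI S M r) :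
    H410.Basic.Hyp S (G ⧸ M) r where
  fin := inferInstance
  simple := h.simple
  nc := by
    by_contra hcon
    push Not at hcon
    apply h.nonsol
    let _ : CommGroup S := { (inferInstance : Group S) with mul_comm := hcon }
    infer_instance
  prime := h.prime
  card := h.card_points
  trans := h.transitive_S

/-- the linear inputs -/
structure LinIn : Prop where
  fix : ∀ (G : Type u) [Group G] [Finite G] (S M : Subgroup G) (r : ℕ) (F : Type) [Field F] [Fintype F] (d : ℕ)
    (e : S ≃* Matrix.ProjectiveSpecialLinearGroup (Fin d) F) (Φ : (G ⧸ M) ≃ ℙ F (Fin d → F)),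
    Lin S M r F d e Φ → FixSub S M r F d Φ
  col : ∀ (G : Type u) [Group G] [Finite G] (S M : Subgroup G) (r : ℕ) (F : Type) [Field F] [Fintype F] (d : ℕ)
    (e : S ≃* Matrix.ProjectiveSpecialLinearGroup (Fin d) F) (Φ : (G ⧸ M) ≃ ℙ F (Fin d → F)),
    3 ≤ d → Lin S M r F d e Φ → ColInv M F d Φ
  four : ∀ (G : Type u) [Group G] [Finite G] (S M : Subgroup G) (r : ℕ) (F : Type) [Field F] [Fintype F] (d : ℕ)
    (e : S ≃* Matrix.ProjectiveSpecialLinearGroup (Fin d) F) (Φ : (G ⧸ M) ≃ ℙ F (Fin d → F)),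
    4 ≤ d → Lin S M r F d e Φ → FixSub S M r F d Φ → ColInv M F d Φ → False

theorem piConcl_five {G : Type u} [Group G] [Finite G] {S M : Subgroup G} (h : PI S M 5) : PIConcl S := by
  rcases H991.NCF.five h with h1 | h1
  · exact Or.inl h1
  · exact Or.inr (Or.inr h1)

theorem topEquivOf {G : Type u} [Group G] {S : Subgroup G} (h : S = ⊤) : Nonempty (G ≃* S) := by
  subst h
  exact ⟨Subgroup.topEquiv.symm⟩

/-- **The case of a maximal subgroup of prime index.** -/
theorem pi_main (hL : LinIn.{u}) (G : Type u) [Group G] [Finite G] (S M : Subgroup G) (r : ℕ) (h : PI S M r) :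
    PIConcl S := by
  have hs := h.simple
  have hk : IsKnownSimple' S := S0000.result
  cases H410.PrimeIndex.main h.hyp hk with
  | alt e =>
    obtain rfl := H991.NCF.altPI h e
    exact piConcl_five h
  | psl F d hd e Φ hΦ hp =>
    have hlin : Lin S M r F d e Φ := ⟨h, hΦ, hd, hp⟩
    have hfix := hL.fix G S M r F d e Φ hlin
    rcases hd.eq_or_lt with hd2 | hd3
    · subst hd2
      obtain rfl := H859.PI.lin_two hlin hfix
      exact piConcl_five h
    · have hcol := hL.col G S M r F d e Φ hd3 hlin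
      rcases (Nat.succ_le_of_lt hd3).eq_or_lt with hd4 | hd4
      · obtain rfl : d = 3 := hd4.symm
        have hq := H859.PI.lin_three hlin hfix hcol
        have htop := lin_three_two hlin hcol hq
        obtain ⟨e1⟩ := topEquivOf htop
        have : Fact (Nat.Prime 7) := ⟨by norm_num⟩
        obtain ⟨e2⟩ := S0255.result (F := ZMod 7) (K := F) (ZMod.card 7) hq
        exact Or.inr (Or.inl ⟨ZMod 7, inferInstance, inferInstance, Or.inl (ZMod.card 7),
          ⟨(e1.trans e).trans e2.symm⟩⟩)
      · exact (hL.four G S M r F d e Φ hd4 hlin hfix hcol).elim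
  | psl11 hp e =>
    subst hp
    obtain ⟨e⟩ := e
    obtain ⟨e1⟩ := topEquivOf (H852.NCPsl11.psl11 h e)
    have : Fact (Nat.Prime 11) := ⟨by norm_num⟩
    exact Or.inr (Or.inl ⟨ZMod 11, inferInstance, inferInstance, Or.inr (ZMod.card 11), ⟨e1.trans e⟩⟩)
  | m11 hp h1 =>
    subst hp
    exact (H852.NCMathieu.m11_m23.1 h h1).elim
  | m23 hp h1 =>
    subst hp
    exact (H852.NCMathieu.m11_m23.2 h h1).elim

end Cfsg.Agent.H584.NC
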