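import Mathlib
import Cfsg.Agent.H584.NC.Comp
import Cfsg.Agent.H584.NC.PIBasic
import Cfsg.Agent.Lib.Cores

/-!
# The hypothesis on maximal subgroups and the solvable radical (S4386)
-/

set_option autoImplicit false

namespace Cfsg.Agent.H584.NC

open Subgroup

universe u v

/-- the hypothesis of the statement -/
def Good (X : Type u) [Group X] : Prop := ∀ M : Subgroup X, IsCoatom M → NC M ∨ M.index.Prime

theorem Good.quot {G : Type u} [Group G] [Finite G] (h : Good G) (N : Subgroup G) [N.Normal] : Good (G ⧸ N) := by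
  intro M hM
  have hs := QuotientGroup.mk'_surjective N
  have h1 : IsCoatom (M.comap (QuotientGroup.mk' N)) := Subgroup.isCoatom_comap_of_surjective hs hM
  rcases h _ h1 with h2 | h2
  · exact Or.inl (NC.of_surjective ((QuotientGroup.mk' N).subgroupComap M)
      ((QuotientGroup.mk' N).subgroupComap_surjective_of_surjective M hs) h2)
  · rw [index_comap_of_surjective _ hs] at h2
    exact Or.inr h2

theorem exists_sylow_inf {X : Type u} [Group X] [Finite X] {r : ℕ} [hr : Fact r.Prime] (R : Sylow r X) (K : Subgroup X)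
    [hK : K.Normal] : ∃ Q : Sylow r K, (Q : Subgroup K).map K.subtype = (R : Subgroup X) ⊓ K := by
  have h1 : IsPGroup r (((R : Subgroup X) ⊓ K).subgroupOf K) :=
    (R.isPGroup'.to_le inf_le_left).comap_of_injective K.subtype (Subgroup.subtype_injective _)
  obtain ⟨Q, hQ⟩ := h1.exists_le_sylow
  have h2 : IsPGroup r ((Q : Subgroup K).map K.subtype : Subgroup X) := Q.isPGroup'.map _
  obtain ⟨P, hP⟩ := h2.exists_le_sylow
  obtain ⟨g, hg⟩ := MulAction.exists_smul_eq X P R
  refine ⟨Q, ?_⟩
  symm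
  apply Subgroup.eq_of_le_of_card_ge
  · intro x hx
    exact ⟨⟨x, hx.2⟩, hQ (by rw [mem_subgroupOf]; exact hx), rfl⟩
  · have h4 : ((Q : Subgroup K).map K.subtype).map (MulAut.conj g).toMonoidHom ≤ (R : Subgroup X) ⊓ K := by
      apply le_inf
      · rw [← hg, Sylow.coe_subgroup_smul]
        exact map_mono hP
      · rintro _ ⟨_, ⟨x, -, rfl⟩, rfl⟩
        exact hK.conj_mem x x.2 g
    calc Nat.card ((Q : Subgroup K).map K.subtype : Subgroup X)
        = Nat.card (((Q : Subgroup K).map K.subtype).map (MulAut.conj g).toMonoidHom : Subgroup X) :=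
          (Subgroup.card_map_of_injective (MulAut.conj g).injective).symm
      _ ≤ _ := Subgroup.card_le_of_le h4

/-- **Frattini's argument** for a Sylow subgroup of the whole group. -/
theorem frattini {X : Type u} [Group X] [Finite X] {r : ℕ} [hr : Fact r.Prime] (R : Sylow r X) (K : Subgroup X)
    [hK : K.Normal] : K ⊔ normalizer (((R : Subgroup X) ⊓ K : Subgroup X) : Set X) = ⊤ := by
  obtain ⟨Q, hQ⟩ := exists_sylow_inf R K
  rw [← hQ, sup_comm]
  exact Sylow.normalizer_sup_eq_top Q

theorem not_dvd_relIndex {X : Type u} [Group X] [Finite X] {r : ℕ} [hr : Fact r.Prime] (R : Sylow r X) (K : Subgroup X)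
    [hK : K.Normal] : ¬ r ∣ ((R : Subgroup X) ⊓ K).relIndex K := by
  obtain ⟨Q, hQ⟩ := exists_sylow_inf R K
  rw [← hQ]
  have h1 : ((Q : Subgroup K).map K.subtype).subgroupOf K = Q := by
    ext x
    rw [mem_subgroupOf]
    constructor
    · rintro ⟨y, hy, hyx⟩
      have : y = x := Subtype.ext hyx
      exact this ▸ hy
    · intro hx
      exact ⟨x, hx, rfl⟩
  unfold relIndex
  rw [h1]
  exact Q.not_dvd_index

theorem isSolvable_of_sup {X : Type u} [Group X] {T M : Subgroup X} [T.Normal] (hT : Group.IsSolvable T)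
    (hM : Group.IsSolvable M) (h : T ⊔ M = ⊤) : Group.IsSolvable X := by
  have h1 : Function.Surjective ((QuotientGroup.mk' T).comp M.subtype) := by
    intro y
    obtain ⟨x, rfl⟩ := QuotientGroup.mk'_surjective T y
    have hx : x ∈ T ⊔ M := h ▸ mem_top x
    rw [mem_sup_of_normal_left] at hx
    obtain ⟨t, ht, m, hm, rfl⟩ := hx
    refine ⟨⟨m, hm⟩, ?_⟩
    change QuotientGroup.mk' T m = QuotientGroup.mk' T (t * m)
    rw [map_mul]
    have h2 : QuotientGroup.mk' T t = 1 := (QuotientGroup.eq_one_iff t).2 ht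
    rw [h2, one_mul]
  have h2 : Group.IsSolvable (X ⧸ T) := solvable_of_surjective h1
  exact solvable_of_ker_le_range T.subtype (QuotientGroup.mk' T) (by rw [QuotientGroup.ker_mk', Subgroup.range_subtype])

/-- **Step A.** -/
theorem stepA {X : Type u} [Group X] [Finite X] (hgood : Good X) (hns : ¬ Group.IsSolvable X) (T V : Subgroup X)
    [hTn : T.Normal] [hVn : V.Normal] (hTV : T ≤ V) (hT2 : IsPGroup 2 T) {r : ℕ} (hr : r.Prime) (hr2 : r ≠ 2) {k : ℕ}
    (hV : T.relIndex V = r ^ k) (hodd : ∀ K : Subgroup X, K.Normal → ¬ 2 ∣ Nat.card K → K = ⊥) : V = T := by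
  have hrf : Fact r.Prime := ⟨hr⟩
  obtain ⟨R⟩ : Nonempty (Sylow r X) := inferInstance
  set P : Subgroup X := (R : Subgroup X) ⊓ V with hP
  have hPr : IsPGroup r P := R.isPGroup'.to_le inf_le_left
  have hcop : ¬ r ∣ Nat.card T := by
    obtain ⟨j, hj⟩ := IsPGroup.iff_card.1 hT2
    rw [hj]
    intro h1
    exact hr2 ((Nat.prime_dvd_prime_iff_eq hr Nat.prime_two).1 (hr.dvd_of_dvd_pow h1))
  -- `V = T P`
  have hVTP : V ≤ T ⊔ P := by
    -- the index of `P` in `V` is prime to `r`
    have h1 : ¬ r ∣ P.relIndex V := not_dvd_relIndex R V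
    have h2 : (T ⊔ P).relIndex V ∣ P.relIndex V := relIndex_dvd_of_le_left V le_sup_right
    have h3 : (T ⊔ P).relIndex V ∣ r ^ k := hV ▸ relIndex_dvd_of_le_left V le_sup_left
    obtain ⟨j, -, hj⟩ := (Nat.dvd_prime_pow hr).1 h3
    rcases j with _ | j
    · rw [pow_zero] at hj
      exact relIndex_eq_one.1 hj
    · exact absurd ((hj ▸ dvd_pow_self r (Nat.succ_ne_zero j)).trans h2) h1
  by_cases hP1 : P = ⊥
  · rw [hP1, sup_bot_eq] at hVTP
    exact le_antisymm hVTP hTV
  exfalso
  have hTN : T ⊔ normalizer (P : Set X) = ⊤ := by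
    have h1 := frattini R V
    rw [← hP] at h1
    rw [eq_top_iff, ← h1]
    exact sup_le (hVTP.trans (sup_le_sup_left Subgroup.le_normalizer T)) le_sup_right
  have hne : normalizer (P : Set X) ≠ ⊤ := by
    intro h1
    apply hP1
    apply hodd P (normalizer_eq_top_iff.1 h1)
    obtain ⟨j, hj⟩ := IsPGroup.iff_card.1 hPr
    rw [hj]
    intro h2
    exact hr2 ((Nat.prime_dvd_prime_iff_eq Nat.prime_two hr).1 (Nat.prime_two.dvd_of_dvd_pow h2)).symm
  obtain ⟨M, hM, hNM⟩ := (eq_top_or_exists_le_coatom (normalizer (P : Set X))).resolve_left hne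
  have hTM : T ⊔ M = ⊤ := top_le_iff.1 (hTN ▸ sup_le_sup_left hNM T)
  rcases hgood M hM with h1 | h1
  · apply hns
    have hTs : Group.IsSolvable T := by
      have := hT2.isNilpotent
      infer_instance
    exact isSolvable_of_sup hTs h1.solvable hTM
  · have h2 : M.index ∣ Nat.card T := by
      rw [← relIndex_of_sup hTn hTM]
      exact relIndex_dvd_card M T
    obtain ⟨j, hj⟩ := IsPGroup.iff_card.1 hT2
    rw [hj] at h2
    have h3 : M.index = 2 := (Nat.prime_dvd_prime_iff_eq h1 Nat.prime_two).1 (h1.dvd_of_dvd_pow h2)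
    have hMn : M.Normal := normal_of_index_eq_two h3
    have h4 := frattini R (M ⊓ V)
    have h5 : (R : Subgroup X) ⊓ (M ⊓ V) = P := by
      rw [hP]
      apply le_antisymm
      · exact inf_le_inf_left _ inf_le_right
      · exact le_inf inf_le_left (le_inf (Subgroup.le_normalizer.trans hNM) inf_le_right)
    rw [h5] at h4
    apply hM.1
    rw [eq_top_iff, ← h4]
    exact sup_le inf_le_left hNM

end Cfsg.Agent.H584.NC
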