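import Mathlib
import Cfsg.Prelude.Def_CaseTheorems
import Cfsg.Agent.H584.NC.StepA

/-!
# The solvable radical and the minimal normal subgroup (S4386)
-/

set_option autoImplicit false

namespace Cfsg.Agent.H584.NC

open Subgroup

universe u v

theorem exists_minimal_normal {G : Type u} [Group G] [Finite G] (C : Subgroup G) (hCn : C.Normal) (hC : C ≠ ⊥) :
    ∃ N : Subgroup G, N.Normal ∧ N ≤ C ∧ N ≠ ⊥ ∧ ∀ M : Subgroup G, M.Normal → M ≤ N → M = ⊥ ∨ M = N := by
  obtain ⟨N, hN⟩ := (Set.toFinite {N : Subgroup G | N.Normal ∧ N ≤ C ∧ N ≠ ⊥}).exists_minimal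
    ⟨C, hCn, le_rfl, hC⟩
  refine ⟨N, hN.1.1, hN.1.2.1, hN.1.2.2, fun M hM hMN => ?_⟩
  by_cases h : M = ⊥
  · exact Or.inl h
  · exact Or.inr (le_antisymm hMN (hN.2 ⟨hM, hMN.trans hN.1.2.1, h⟩ hMN))

/-- a minimal normal subgroup is a `p`-group or nonabelian with components -/
theorem minimal_cases {G : Type u} [Group G] [Finite G] (N : Subgroup G) (hNn : N.Normal) (hN : N ≠ ⊥)
    (hmin : ∀ M : Subgroup G, M.Normal → M ≤ N → M = ⊥ ∨ M = N) :
    (∃ p : ℕ, p.Prime ∧ IsPGroup p N) ∨ ∃ C : Set (Subgroup G), Cmp N C := by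
  by_cases hab : ∀ x ∈ N, ∀ y ∈ N, x * y = y * x
  · left
    obtain ⟨p, hp, h1, -⟩ := Lib.MinNormalNonabelian.abelian_structure N hN hmin hab
    exact ⟨p, hp, h1⟩
  · exact Or.inr ⟨_, Cmp.of_minimal N hNn hmin hab⟩

theorem minimal_of_solvable {G : Type u} [Group G] [Finite G] (N : Subgroup G) (hNn : N.Normal) (hN : N ≠ ⊥)
    (hmin : ∀ M : Subgroup G, M.Normal → M ≤ N → M = ⊥ ∨ M = N) (hs : Group.IsSolvable N) :
    ∃ p : ℕ, p.Prime ∧ IsPGroup p N := by
  rcases minimal_cases N hNn hN hmin with h | ⟨C, h⟩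
  · exact h
  · exfalso
    obtain ⟨T, hT⟩ := h.nonempty
    apply h.nonsol hT
    exact solvable_of_solvable_injective (f := Subgroup.inclusion (h.le T hT)) (Subgroup.inclusion_injective _)

/-- **The radical.** -/
theorem radical {G : Type u} [Group G] [Finite G] (hns : ¬ Group.IsSolvable G) (hgood : Good G)
    (T : Subgroup G) [hTn : T.Normal] (hOT : Cfsg.oddCore G ≤ T) (hT2 : ∃ k : ℕ, (Cfsg.oddCore G).relIndex T = 2 ^ k)
    (hTmax : ∀ N : Subgroup G, N.Normal → Cfsg.oddCore G ≤ N → (∃ k : ℕ, (Cfsg.oddCore G).relIndex N = 2 ^ k) → N ≤ T) :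
    Group.IsSolvable T ∧ ∀ N : Subgroup G, N.Normal → Group.IsSolvable N → N ≤ T := by
  have hOn : (Cfsg.oddCore G).Normal := Lib.Cores.pPrimeCore_normal 2
  have hOc : (Nat.card (Cfsg.oddCore G)).Coprime 2 := Lib.Cores.pPrimeCore_coprime 2
  obtain ⟨k, hk⟩ := hT2
  have hTs : Group.IsSolvable T := by
    have h1 : NC T := by
      refine NC_iff.2 ⟨(Cfsg.oddCore G).subgroupOf T, hOn.subgroupOf T, ?_, ?_⟩
      · have h2 : Nat.card ((Cfsg.oddCore G).subgroupOf T) ∣ Nat.card (Cfsg.oddCore G) :=
          (Nat.card_congr (Subgroup.subgroupOfEquivOfLe hOT).toEquiv).dvd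
        exact hOc.coprime_dvd_left h2
      · exact IsPGroup.of_card (n := k) hk
    exact h1.solvable
  refine ⟨hTs, ?_⟩
  intro N hN hNs
  by_contra hcon
  have hs := QuotientGroup.mk'_surjective T
  have hNbar : (N.map (QuotientGroup.mk' T)) ≠ ⊥ := by
    intro h1
    rw [Subgroup.map_eq_bot_iff, QuotientGroup.ker_mk'] at h1
    exact hcon h1
  obtain ⟨V, hVn, hVN, hV1, hVmin⟩ := exists_minimal_normal (N.map (QuotientGroup.mk' T)) (hN.map _ hs) hNbar
  have hNbs : Group.IsSolvable (N.map (QuotientGroup.mk' T)) :=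
    solvable_of_surjective ((QuotientGroup.mk' T).subgroupMap_surjective N)
  have hVs : Group.IsSolvable V :=
    solvable_of_solvable_injective (f := Subgroup.inclusion hVN) (Subgroup.inclusion_injective _)
  obtain ⟨r, hr, hVr⟩ := minimal_of_solvable V hVn hV1 hVmin hVs
  set W : Subgroup G := V.comap (QuotientGroup.mk' T) with hW
  have hWn : W.Normal := hVn.comap _
  have hTW : T ≤ W := by
    intro t ht
    rw [hW, mem_comap]
    have : QuotientGroup.mk' T t = 1 := (QuotientGroup.eq_one_iff t).2 ht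
    rw [this]
    exact one_mem V
  have hWV : W.map (QuotientGroup.mk' T) = V := map_comap_eq_self_of_surjective hs V
  have hrf : Fact r.Prime := ⟨hr⟩
  obtain ⟨j, hj⟩ := IsPGroup.iff_card.1 hVr
  have hrel : T.relIndex W = r ^ j := by
    have h1 := relIndex_ker (QuotientGroup.mk' T) (K := W)
    rw [QuotientGroup.ker_mk', hWV, hj] at h1
    exact h1
  have hWT : ¬ W ≤ T := by
    intro h1
    apply hV1
    rw [← hWV, Subgroup.map_eq_bot_iff, QuotientGroup.ker_mk']
    exact h1
  by_cases hr2 : r = 2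
  · subst hr2
    apply hWT
    apply hTmax W hWn (hOT.trans hTW)
    exact ⟨k + j, by rw [← relIndex_mul_relIndex _ _ _ hOT hTW, hk, hrel, pow_add]⟩
  · set f := QuotientGroup.mk' (Cfsg.oddCore G) with hf
    have hfs : Function.Surjective f := QuotientGroup.mk'_surjective _
    have hker : f.ker = Cfsg.oddCore G := QuotientGroup.ker_mk' _
    have hTn' : (T.map f).Normal := hTn.map f hfs
    have hWn' : (W.map f).Normal := hWn.map f hfs
    have hOs : Group.IsSolvable (Cfsg.oddCore G) :=
      (NC_of_odd ((Nat.Prime.coprime_iff_not_dvd Nat.prime_two).1 hOc.symm)).solvable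
    have h1 : W.map f = T.map f := by
      refine stepA (X := G ⧸ Cfsg.oddCore G) (hgood.quot _) ?_ (T.map f) (W.map f) (map_mono hTW) ?_ hr hr2 (k := j) ?_ ?_
      · intro h2
        apply hns
        exact solvable_of_ker_le_range (Cfsg.oddCore G).subtype f (by rw [hker, Subgroup.range_subtype])
      · rw [IsPGroup.iff_card]
        exact ⟨k, by rw [← relIndex_ker, hker, hk]⟩
      · rw [relIndex_map_map, hker, sup_eq_left.2 hOT, sup_eq_left.2 (hOT.trans hTW), hrel]
      · intro K hK hodd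
        have h2 : K ≤ Cfsg.pPrimeCore 2 (G ⧸ Cfsg.oddCore G) :=
          Lib.Cores.le_pPrimeCore hK ((Nat.Prime.coprime_iff_not_dvd Nat.prime_two).2 hodd).symm
        have h3 : Cfsg.pPrimeCore 2 (G ⧸ Cfsg.oddCore G) = ⊥ := Lib.Cores.pPrimeCore_quotient_pPrimeCore 2
        rw [h3, le_bot_iff] at h2
        exact h2
    apply hWT
    have h2 : (W.map f).comap f = (T.map f).comap f := by rw [h1]
    rw [comap_map_eq, comap_map_eq, hker, sup_eq_left.2 hOT, sup_eq_left.2 (hOT.trans hTW)] at h2
    exact h2.le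

/-- The index of a subgroup containing the normalizer of a Sylow `p`-subgroup is `1` modulo `p`. -/
theorem index_modEq_one {G : Type*} [Group G] [Finite G] {p : ℕ} [Fact p.Prime] (P : Sylow p G) (M : Subgroup G)
    (h : Subgroup.normalizer ((P : Subgroup G) : Set G) ≤ M) : M.index ≡ 1 [MOD p] := by
  have hPM : (P : Subgroup G) ≤ M := Subgroup.le_normalizer.trans h
  have h1 := card_sylow_modEq_one p M
  rw [Sylow.card_eq_index_normalizer (P.subtype hPM)] at h1
  have h2 := card_sylow_modEq_one p G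
  rw [Sylow.card_eq_index_normalizer P] at h2
  have h3 : Subgroup.normalizer ((P.subtype hPM : Subgroup M) : Set M) =
      (Subgroup.normalizer ((P : Subgroup G) : Set G)).subgroupOf M := by
    ext x
    rw [Subgroup.mem_subgroupOf, Subgroup.mem_normalizer_iff, Subgroup.mem_normalizer_iff]
    constructor
    · intro hx y
      constructor
      · intro hy
        exact (hx ⟨y, hPM hy⟩).mp hy
      · intro hy
        have hyM : y ∈ M := by
          have h4 := M.mul_mem (M.mul_mem (M.inv_mem x.2) (hPM hy)) x.2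
          simpa [mul_assoc] using h4
        exact (hx ⟨y, hyM⟩).mpr hy
    · intro hx y
      exact hx y
  have h1' : (Subgroup.normalizer ((P.subtype hPM : Subgroup M) : Set M)).index ≡ 1 [MOD p] := h1
  rw [h3] at h1'
  have h4 := Subgroup.relIndex_mul_index h
  have h2' : (Subgroup.normalizer ((P : Subgroup G) : Set G)).index ≡ 1 [MOD p] := h2
  rw [← h4] at h2'
  have h5 : (Subgroup.normalizer ((P : Subgroup G) : Set G)).relIndex M * M.index ≡ 1 * M.index [MOD p] :=
    Nat.ModEq.mul_right _ h1'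
  rw [one_mul] at h5
  exact h5.symm.trans h2'

/-- **Step B.** -/
theorem stepB {X : Type u} [Group X] [Finite X] (hgood : Good X) (hns : ¬ Group.IsSolvable X)
    (hrad : ∀ K : Subgroup X, K.Normal → Group.IsSolvable K → K = ⊥) :
    ∃ (N : Subgroup X) (C : Set (Subgroup X)), Cmp N C ∧ N ≠ ⊥ ∧ (∀ M : Subgroup X, M.Normal → M ≤ N → M = ⊥ ∨ M = N) ∧
      centralizer (N : Set X) = ⊥ := by
  have htop : (⊤ : Subgroup X) ≠ ⊥ := by
    intro h1
    apply hns
    have : Subsingleton X := Subgroup.subsingleton_iff.1 (subsingleton_of_bot_eq_top h1.symm)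
    infer_instance
  -- the quotient by any minimal normal subgroup is solvable
  have key : ∀ N : Subgroup X, N.Normal → N ≠ ⊥ → (∀ M : Subgroup X, M.Normal → M ≤ N → M = ⊥ ∨ M = N) →
      ∃ M : Subgroup X, NC M ∧ N ⊔ M = ⊤ := by
    intro N hNn hN hmin
    obtain ⟨p, hp, hpN, hpmax⟩ : ∃ p : ℕ, p.Prime ∧ p ∣ Nat.card N ∧ ∀ q : ℕ, q.Prime → q ∣ Nat.card N → q ≤ p := by
      have h1 : Nat.card N ≠ 1 := fun h => hN (Subgroup.card_eq_one.1 h)
      have h0 : Nat.card N ≠ 0 := Nat.card_pos.ne'
      have hne : (Nat.card N).primeFactors.Nonempty := Nat.nonempty_primeFactors.2 (by omega)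
      refine ⟨(Nat.card N).primeFactors.max' hne, ?_, ?_, ?_⟩
      · exact Nat.prime_of_mem_primeFactors (Finset.max'_mem _ hne)
      · exact Nat.dvd_of_mem_primeFactors (Finset.max'_mem _ hne)
      · intro q hq hqN
        exact Finset.le_max' _ _ (Nat.mem_primeFactors.2 ⟨hq, hqN, h0⟩)
    have hpf : Fact p.Prime := ⟨hp⟩
    obtain ⟨P⟩ : Nonempty (Sylow p N) := inferInstance
    set P' : Subgroup X := (P : Subgroup N).map N.subtype with hP'
    have hfr : N ⊔ normalizer (P' : Set X) = ⊤ := by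
      rw [sup_comm]
      exact Sylow.normalizer_sup_eq_top P
    have hne : normalizer (P' : Set X) ≠ ⊤ := by
      intro h1
      have h2 : IsPGroup p P' := P.isPGroup'.map _
      have h3 : P' = ⊥ := by
        apply hrad P' (normalizer_eq_top_iff.1 h1)
        have := h2.isNilpotent
        infer_instance
      rw [hP', map_eq_bot_iff_of_injective _ (Subgroup.subtype_injective _)] at h3
      have h4 : p ∣ Nat.card (P : Subgroup N) := P.dvd_card_of_dvd_card hpN
      rw [h3, Subgroup.card_bot, Nat.dvd_one] at h4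
      exact hp.one_lt.ne' h4
    obtain ⟨M, hM, hNM⟩ := (eq_top_or_exists_le_coatom (normalizer (P' : Set X))).resolve_left hne
    have hsup : N ⊔ M = ⊤ := top_le_iff.1 (hfr ▸ sup_le_sup_left hNM N)
    rcases hgood M hM with h1 | h1
    · exact ⟨M, h1, hsup⟩
    · exfalso
      have h2 : M.index ∣ Nat.card N := by
        rw [← relIndex_of_sup hNn hsup]
        exact relIndex_dvd_card M N
      have h3 := hpmax _ h1 h2
      have h4 : M.index ≡ 1 [MOD p] := by
        rw [← relIndex_of_sup hNn hsup]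
        refine index_modEq_one P _ ?_
        intro x hx
        rw [mem_subgroupOf]
        apply hNM
        rw [mem_normalizer_iff] at hx ⊢
        intro y
        constructor
        · rintro ⟨z, hz, rfl⟩
          exact ⟨x * z * x⁻¹, (hx z).1 hz, rfl⟩
        · rintro ⟨z, hz, hzy⟩
          have h5 : y = (x : X)⁻¹ * z * x := by
            have h6 : (z : X) = x * y * (x : X)⁻¹ := hzy
            rw [h6]; group
          refine ⟨x⁻¹ * z * x, ?_, by rw [h5]; rfl⟩
          have h6 : x * (x⁻¹ * z * x) * x⁻¹ = z := by group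
          exact (hx _).2 (by rw [h6]; exact hz)
      have h5 : p ∣ M.index - 1 := (Nat.modEq_iff_dvd' h1.one_lt.le).1 h4.symm
      have h6 := Nat.le_of_dvd (by have := h1.one_lt; omega) h5
      have := h1.one_lt
      omega
  obtain ⟨N, hNn, -, hN, hmin⟩ := exists_minimal_normal (⊤ : Subgroup X) inferInstance htop
  have hquot : ∀ K : Subgroup X, K.Normal → N ⊓ K = ⊥ → K = ⊥ := by
    intro K hK hNK
    apply hrad K hK
    obtain ⟨M, hM, hsup⟩ := key N hNn hN hmin
    have h1 : Function.Surjective ((QuotientGroup.mk' N).comp M.subtype) := by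
      intro y
      obtain ⟨x, rfl⟩ := QuotientGroup.mk'_surjective N y
      have hx : x ∈ N ⊔ M := hsup ▸ mem_top x
      rw [mem_sup_of_normal_left] at hx
      obtain ⟨t, ht, m, hm, rfl⟩ := hx
      refine ⟨⟨m, hm⟩, ?_⟩
      change QuotientGroup.mk' N m = QuotientGroup.mk' N (t * m)
      rw [map_mul]
      have h2 : QuotientGroup.mk' N t = 1 := (QuotientGroup.eq_one_iff t).2 ht
      rw [h2, one_mul]
    have hMs := hM.solvable
    have h2 : Group.IsSolvable (X ⧸ N) := solvable_of_surjective h1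
    refine solvable_of_solvable_injective (f := (QuotientGroup.mk' N).comp K.subtype) ?_
    rw [injective_iff_map_eq_one]
    intro x hx
    have h3 : (x : X) ∈ N := (QuotientGroup.eq_one_iff (x : X)).1 hx
    have h4 : (x : X) ∈ N ⊓ K := ⟨h3, x.2⟩
    rw [hNK, mem_bot] at h4
    exact Subtype.ext h4
  rcases minimal_cases N hNn hN hmin with ⟨p, hp, hpN⟩ | ⟨C, hC⟩
  · exfalso
    apply hN
    apply hrad N hNn
    have := Fact.mk hp
    have := hpN.isNilpotent
    infer_instance
  · refine ⟨N, C, hC, hN, hmin, ?_⟩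
    apply hquot _ inferInstance
    rw [eq_bot_iff]
    intro x hx
    obtain ⟨T, hT⟩ := hC.nonempty
    -- `x` centralizes `N` and lies in `N`
    have h1 : N ⊓ centralizer (N : Set X) = ⊥ := by
      apply hrad _ inferInstance
      have : IsMulCommutative ↥(N ⊓ centralizer (N : Set X)) := ⟨⟨fun a b => by
        apply Subtype.ext
        exact (Subgroup.mem_centralizer_iff.1 a.2.2 b b.2.1).symm⟩⟩
      let _ : CommGroup ↥(N ⊓ centralizer (N : Set X)) :=
        { (inferInstance : Group ↥(N ⊓ centralizer (N : Set X))) with mul_comm := this.1.1 }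
      infer_instance
    rw [h1] at hx
    exact hx

end Cfsg.Agent.H584.NC
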